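import Cfsg.Agent.H943.E7V.Iface
import Cfsg.Agent.H597.BrInv

/-!
# `U₄(3)` is not contained in `E₇(2)`: the argument (S5935; helper248)

`Q = 3⁴`, the orthogonal space of minus type over the field of three elements. The values of the 56-dimensional module at
its three classes are `2`, `20`, `20` and the fixed spaces of `Q`, `z^⊥` and `z` (`z` singular) have dimension 16, 20, 20.
Hence `V^z` is the fixed space of every conjugate of `z^⊥` by an element of the centralizer of `z`, and `V^Q` is fixed by an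
element `y` of order 5 acting on `Q`. But the fixed space of `Q⟨y⟩` has dimension 8.
-/

set_option autoImplicit false

namespace Cfsg.Agent.H248.E7U

open Cfsg IsLocalRing Module Cfsg.Agent.H657 Cfsg.Agent.H943.E7V

attribute [local instance] Above.isAlgClosed

/-- the group of order three -/
abbrev A : Type := Multiplicative (ZMod 3)

/-- the group of order 81 -/
abbrev E : Type := A × A × A × A

/-- the quadratic form -/
def ty (e : E) : ZMod 3 :=
  e.1.toAdd * e.2.2.2.toAdd + e.2.1.toAdd ^ 2 + 2 * e.2.1.toAdd * e.2.2.1.toAdd + 2 * e.2.2.1.toAdd ^ 2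

/-- generator -/
def a : A := Multiplicative.ofAdd 1

/-- the data -/
structure Dat (S : Type*) [Group S] where
  /-- the elementary abelian group -/
  f : E →* S
  inj : Function.Injective f
  conj : ∀ e e' : E, e ≠ 1 → e' ≠ 1 → ty e = ty e' → ∃ g : S, g * f e * g⁻¹ = f e'
  /-- first conjugating element -/
  g₁ : S
  /-- second conjugating element -/
  g₂ : S
  h₁ : ∃ e, g₁ * f (a, 1, 1, 1) * g₁⁻¹ = f e
  h₂ : ∃ e, g₂ * f (a, 1, 1, 1) * g₂⁻¹ = f e
  /-- first element -/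
  k₁ : A × A × A
  /-- second element -/
  k₂ : A × A × A
  hy : (g₁ * f (k₁.1, k₁.2.1, k₁.2.2, 1) * g₁⁻¹ * (g₂ * f (k₂.1, k₂.2.1, k₂.2.2, 1) * g₂⁻¹)) ^ 5 = 1
  hn : ∀ e, ∃ e', g₁ * f (k₁.1, k₁.2.1, k₁.2.2, 1) * g₁⁻¹ * (g₂ * f (k₂.1, k₂.2.1, k₂.2.2, 1) * g₂⁻¹) * f e =
    f e' * (g₁ * f (k₁.1, k₁.2.1, k₁.2.2, 1) * g₁⁻¹ * (g₂ * f (k₂.1, k₂.2.1, k₂.2.2, 1) * g₂⁻¹))
  hc : ∀ e, e ≠ 1 → g₁ * f (k₁.1, k₁.2.1, k₁.2.2, 1) * g₁⁻¹ * (g₂ * f (k₂.1, k₂.2.1, k₂.2.2, 1) * g₂⁻¹) * f e ≠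
    f e * (g₁ * f (k₁.1, k₁.2.1, k₁.2.2, 1) * g₁⁻¹ * (g₂ * f (k₂.1, k₂.2.1, k₂.2.2, 1) * g₂⁻¹))

/-! ### Frobenius groups -/

section frob

variable {S : Type*} [Group S]

theorem exists_mul {P : Subgroup S} {y : S} (hN : y ∈ Subgroup.normalizer (P : Set S)) {g : S}
    (hg : g ∈ P ⊔ Subgroup.zpowers y) : ∃ x ∈ P, ∃ k : ℤ, g = x * y ^ k := by
  have hle : Subgroup.zpowers y ≤ Subgroup.normalizer (P : Set S) := by
    rw [Subgroup.zpowers_le]
    exact hN
  have h1 : g ∈ ((P ⊔ Subgroup.zpowers y : Subgroup S) : Set S) := hg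
  rw [Subgroup.coe_mul_of_right_le_normalizer_left _ _ hle, Set.mem_mul] at h1
  obtain ⟨x, hx, z, hz, rfl⟩ := h1
  obtain ⟨k, rfl⟩ := Subgroup.mem_zpowers_iff.1 hz
  exact ⟨x, hx, k, rfl⟩

theorem card_mul {P : Subgroup S} {y : S} (hN : y ∈ Subgroup.normalizer (P : Set S))
    (hd : Disjoint P (Subgroup.zpowers y)) :
    Nat.card ↥(P ⊔ Subgroup.zpowers y) = Nat.card P * Nat.card (Subgroup.zpowers y) := by
  have h1 : Function.Bijective (fun g : P × Subgroup.zpowers y => (⟨g.1 * g.2, Subgroup.mul_mem _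
      (Subgroup.mem_sup_left g.1.2) (Subgroup.mem_sup_right g.2.2)⟩ : ↥(P ⊔ Subgroup.zpowers y))) := by
    constructor
    · intro g g' h
      exact Subgroup.mul_injective_of_disjoint hd (congrArg Subtype.val h)
    · rintro ⟨g, hg⟩
      obtain ⟨x, hx, k, rfl⟩ := exists_mul hN hg
      exact ⟨(⟨x, hx⟩, ⟨y ^ k, k, rfl⟩), rfl⟩
  rw [← Nat.card_eq_of_bijective _ h1, Nat.card_prod]

/-- an element outside the kernel has order 5 -/
theorem pow5 {P : Subgroup S} {y : S} (hN : y ∈ Subgroup.normalizer (P : Set S)) (hy5 : y ^ 5 = 1)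
    (hab : ∀ x ∈ P, ∀ x' ∈ P, x * x' = x' * x)
    (hyc : ∀ x ∈ P, y * x = x * y → x = 1) {g : S} (hg : g ∈ P ⊔ Subgroup.zpowers y) (hgP : g ∉ P) : g ^ 5 = 1 := by
  obtain ⟨x, hx, k, rfl⟩ := exists_mul hN hg
  have hyk : y ^ k ∈ Subgroup.normalizer (P : Set S) := Subgroup.zpow_mem _ hN k
  have h1 : ∀ n : ℕ, ∃ u ∈ P, (x * y ^ k) ^ n = u * (y ^ k) ^ n := by
    intro n
    induction n with
    | zero => exact ⟨1, P.one_mem, by simp⟩
    | succ n ih =>
      obtain ⟨u, hu, h2⟩ := ih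
      refine ⟨x * (y ^ k * u * (y ^ k)⁻¹), P.mul_mem hx ((Subgroup.mem_normalizer_iff.1 hyk u).1 hu), ?_⟩
      rw [pow_succ', h2, pow_succ' (y ^ k) n]
      group
  obtain ⟨c, hc, h2⟩ := h1 5
  have h3 : (y ^ k) ^ 5 = 1 := by
    rw [← zpow_natCast, ← zpow_mul, mul_comm, zpow_mul, zpow_natCast, hy5, one_zpow]
  rw [h3, mul_one] at h2
  rw [h2]
  have h4 : c * (x * y ^ k) = x * y ^ k * c := by
    rw [← h2]
    exact ((Commute.refl (x * y ^ k)).pow_left 5).eq
  have h5 : c * y ^ k = y ^ k * c := by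
    have : x * (c * y ^ k) = x * (y ^ k * c) := by
      rw [← mul_assoc, hab x hx c hc, mul_assoc, h4, mul_assoc]
    exact mul_left_cancel this
  have h6 : ¬ (5 : ℤ) ∣ k := by
    rintro ⟨l, rfl⟩
    apply hgP
    rw [zpow_mul, show (5 : ℤ) = ((5 : ℕ) : ℤ) from rfl, zpow_natCast, hy5, one_zpow, mul_one]
    exact hx
  have h7 : ∃ m : ℤ, (y ^ k) ^ m = y := by
    have h8 : IsCoprime k 5 := by
      have h9 : Prime (5 : ℤ) := by norm_num
      exact ((Prime.coprime_iff_not_dvd h9).2 h6).symm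
    obtain ⟨m, n, hmn⟩ := h8
    refine ⟨m, ?_⟩
    rw [← zpow_mul]
    have h10 : k * m = 1 - 5 * n := by linarith
    rw [h10, zpow_sub, zpow_one, zpow_mul, show (5 : ℤ) = ((5 : ℕ) : ℤ) from rfl, zpow_natCast, hy5, one_zpow,
      inv_one, mul_one]
  obtain ⟨m, hm⟩ := h7
  apply hyc c hc
  have h8 : Commute (y ^ k) c := h5.symm
  have h9 := h8.zpow_left m
  rw [hm] at h9
  exact h9.eq

end frob

/-! ### The values -/

theorem arith {x₀ x₁ x₂ : ℤ} {d₄ d₃ d₁ dB dC : ℕ} (h₀ : x₀ = 2 ∨ x₀ = 20 ∨ x₀ = -7 ∨ x₀ = -25)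
    (h₁ : x₁ = 2 ∨ x₁ = 20 ∨ x₁ = -7 ∨ x₁ = -25) (h₂ : x₂ = 2 ∨ x₂ = 20 ∨ x₂ = -7 ∨ x₂ = -25)
    (e₄ : 56 + 20 * x₀ + 30 * x₁ + 30 * x₂ = 81 * (d₄ : ℤ)) (e₃ : 56 + 2 * x₀ + 12 * x₁ + 12 * x₂ = 27 * (d₃ : ℤ))
    (e₁ : 56 + 2 * x₀ = 3 * (d₁ : ℤ)) (eB : 56 + 2 * x₀ + 6 * x₁ = 9 * (dB : ℤ))
    (eC : 56 + 2 * x₀ + 6 * x₂ = 9 * (dC : ℤ)) (lB : d₄ ≤ dB) (lC : d₄ ≤ dC) :
    x₀ = 2 ∧ x₁ = 20 ∧ x₂ = 20 ∧ d₄ = 16 ∧ d₃ = 20 ∧ d₁ = 20 := by
  rcases h₀ with rfl | rfl | rfl | rfl <;> rcases h₁ with rfl | rfl | rfl | rfl <;>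
    rcases h₂ with rfl | rfl | rfl | rfl <;> omega

/-- representatives -/
def rp (i : ZMod 3) : E := if i = 0 then (a, 1, 1, 1) else if i = 1 then (1, a, 1, 1) else (1, 1, a, 1)

theorem rp_ty : ∀ i, ty (rp i) = i ∧ rp i ≠ 1 := by decide +kernel

theorem E_pow (e : E) : e ^ 3 = 1 := by
  revert e
  decide +kernel

/-- the value at an element -/
def val (x : ZMod 3 → ℤ) (e : E) : ℤ := if e = 1 then 56 else x (ty e)

theorem val_eq (x : ZMod 3 → ℤ) (e : E) : val x e = 56 * (if e = 1 then 1 else 0) +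
    x 0 * (if e ≠ 1 ∧ ty e = 0 then 1 else 0) + x 1 * (if e ≠ 1 ∧ ty e = 1 then 1 else 0) +
    x 2 * (if e ≠ 1 ∧ ty e = 2 then 1 else 0) := by
  have h3 : ∀ j : ZMod 3, j = 0 ∨ j = 1 ∨ j = 2 := by decide
  have h01 : (0 : ZMod 3) ≠ 1 := by decide
  have h02 : (0 : ZMod 3) ≠ 2 := by decide
  have h12 : (1 : ZMod 3) ≠ 2 := by decide
  unfold val
  by_cases he : e = 1
  · simp [he]
  · rcases h3 (ty e) with h | h | h <;> simp [he, h, h01, h02, h12, h01.symm, h02.symm, h12.symm]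

theorem sum_val {K : Type*} [Fintype K] (x : ZMod 3 → ℤ) (i : K → E) {n₀ n₁ n₂ : ℤ}
    (h : (∑ k, if i k = 1 then (1 : ℤ) else 0) = 1) (h₀ : (∑ k, if i k ≠ 1 ∧ ty (i k) = 0 then (1 : ℤ) else 0) = n₀)
    (h₁ : (∑ k, if i k ≠ 1 ∧ ty (i k) = 1 then (1 : ℤ) else 0) = n₁)
    (h₂ : (∑ k, if i k ≠ 1 ∧ ty (i k) = 2 then (1 : ℤ) else 0) = n₂) :
    ∑ k, val x (i k) = 56 + n₀ * x 0 + n₁ * x 1 + n₂ * x 2 := by
  rw [Finset.sum_congr rfl fun k _ => val_eq x (i k), Finset.sum_add_distrib, Finset.sum_add_distrib,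
    Finset.sum_add_distrib, ← Finset.mul_sum, ← Finset.mul_sum, ← Finset.mul_sum, ← Finset.mul_sum, h, h₀, h₁, h₂]
  ring

/-- the subgroup `z^⊥` -/
def i₃ : A × A × A →* E where
  toFun k := (k.1, k.2.1, k.2.2, 1)
  map_one' := rfl
  map_mul' k l := by simp

/-- the subgroup `⟨z⟩` -/
def i₁ : A →* E where
  toFun k := (k, 1, 1, 1)
  map_one' := rfl
  map_mul' k l := by simp

/-- the first plane -/
def iB : A × A →* E where
  toFun k := (k.1, k.2, 1, 1)
  map_one' := rfl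
  map_mul' k l := by simp

/-- the second plane -/
def iC : A × A →* E where
  toFun k := (k.1, 1, k.2, 1)
  map_one' := rfl
  map_mul' k l := by simp

section main

variable {M : Ideal AlgInt} {V : ValuationSubring ℂ} {S : Type*} [Group S]

theorem dimF (hM : IsPModular 2 M) (hV : Above M V)
    (σ : Representation (ResidueField V) S (Fin 56 → ResidueField V)) {K : Type*} [Group K] [Fintype K]
    (hK : (Fintype.card K).Coprime 2) (f : K →* S) :
    ∑ k, bc 2 σ (f k) = (Fintype.card K : ℂ) *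
      (Module.finrank (ResidueField V) (Representation.invariants (σ.comp f)) : ℂ) :=
  H597.BrInv.C hM hV hK (σ.comp f)

theorem inv_le (σ : Representation (ResidueField V) S (Fin 56 → ResidueField V)) {K L : Type*} [Group K] [Group L]
    (f : K →* S) (i : L →* K) : Representation.invariants (σ.comp f) ≤ Representation.invariants (σ.comp (f.comp i)) := by
  intro w hw
  rw [Representation.mem_invariants] at hw ⊢
  intro g
  exact hw (i g)

variable (D : Dat S)

theorem exists_val (σ : Representation (ResidueField V) S (Fin 56 → ResidueField V)) (H : Vals σ) :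
    ∃ x : ZMod 3 → ℤ, (∀ i, x i = 2 ∨ x i = 20 ∨ x i = -7 ∨ x i = -25) ∧ ∀ e, bc 2 σ (D.f e) = val x e := by
  have ho : ∀ e : E, e ≠ 1 → orderOf (D.f e) = 3 := by
    intro e he
    refine orderOf_eq_prime (by rw [← map_pow, E_pow, map_one]) fun h => he ?_
    rw [← map_one D.f] at h
    exact D.inj h
  have h1 : ∀ i : ZMod 3, ∃ z : ℤ, (z = 2 ∨ z = 20 ∨ z = -7 ∨ z = -25) ∧ bc 2 σ (D.f (rp i)) = z := by
    intro i
    rcases H.three _ (ho _ (rp_ty i).2) with h | h | h | h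
    · exact ⟨2, by norm_num, by rw [h]; norm_num⟩
    · exact ⟨20, by norm_num, by rw [h]; norm_num⟩
    · exact ⟨-7, by norm_num, by rw [h]; norm_num⟩
    · exact ⟨-25, by norm_num, by rw [h]; norm_num⟩
  choose x hx1 hx2 using h1
  refine ⟨x, hx1, fun e => ?_⟩
  unfold val
  split_ifs with he
  · rw [he, map_one, H.one]
    norm_num
  · obtain ⟨g, hg⟩ := D.conj e (rp (ty e)) he (rp_ty _).2 (rp_ty _).1.symm
    rw [← hx2, ← hg, bc_conj]

theorem dimE (hM : IsPModular 2 M) (hV : Above M V)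
    (σ : Representation (ResidueField V) S (Fin 56 → ResidueField V)) {x : ZMod 3 → ℤ}
    (hx : ∀ e, bc 2 σ (D.f e) = val x e) {K : Type*} [Group K] [Fintype K]
    (hK : (Fintype.card K).Coprime 2) (i : K →* E) {n₀ n₁ n₂ : ℤ}
    (h : (∑ k, if i k = 1 then (1 : ℤ) else 0) = 1) (h₀ : (∑ k, if i k ≠ 1 ∧ ty (i k) = 0 then (1 : ℤ) else 0) = n₀)
    (h₁ : (∑ k, if i k ≠ 1 ∧ ty (i k) = 1 then (1 : ℤ) else 0) = n₁)
    (h₂ : (∑ k, if i k ≠ 1 ∧ ty (i k) = 2 then (1 : ℤ) else 0) = n₂) :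
    56 + n₀ * x 0 + n₁ * x 1 + n₂ * x 2 = (Fintype.card K : ℤ) *
      (Module.finrank (ResidueField V) (Representation.invariants (σ.comp (D.f.comp i))) : ℤ) := by
  have h3 := dimF hM hV σ hK (D.f.comp i)
  have h4 : ∑ k, bc 2 σ ((D.f.comp i) k) = ((∑ k, val x (i k) : ℤ) : ℂ) := by
    push_cast
    exact Finset.sum_congr rfl fun k _ => hx (i k)
  rw [h4, sum_val x i h h₀ h₁ h₂] at h3
  exact_mod_cast h3

/-- the stabilizer of a vector -/
def St (σ : Representation (ResidueField V) S (Fin 56 → ResidueField V)) (w : Fin 56 → ResidueField V) : Subgroup S where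
  carrier := {g | σ g w = w}
  one_mem' := by simp
  mul_mem' {g h} hg hh := by
    have hg' : σ g w = w := hg
    have hh' : σ h w = w := hh
    change σ (g * h) w = w
    rw [map_mul, Module.End.mul_apply, hh', hg']
  inv_mem' {g} hg := by
    have hg' : σ g w = w := hg
    change σ g⁻¹ w = w
    conv_lhs => rw [← hg']
    rw [← Module.End.mul_apply, ← map_mul, inv_mul_cancel, map_one, Module.End.one_apply]

theorem mem_St {σ : Representation (ResidueField V) S (Fin 56 → ResidueField V)} {w : Fin 56 → ResidueField V} {g : S} :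
    g ∈ St σ w ↔ σ g w = w := Iff.rfl

theorem A_pow (k : A) : k = a ^ k.toAdd.val := by
  revert k
  decide +kernel

/-- the conjugates of `z^⊥` fix `V^Q` -/
theorem fix_conj (σ : Representation (ResidueField V) S (Fin 56 → ResidueField V))
    (heq : Representation.invariants (σ.comp (D.f.comp i₁)) = Representation.invariants (σ.comp (D.f.comp i₃)))
    {g : S} (hg : ∃ e, g * D.f (a, 1, 1, 1) * g⁻¹ = D.f e) {w : Fin 56 → ResidueField V}
    (hw : ∀ e, D.f e ∈ St σ w) (k : A × A × A) : g * D.f (i₃ k) * g⁻¹ ∈ St σ w := by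
  obtain ⟨e, he⟩ := hg
  have h1 : σ g⁻¹ w ∈ Representation.invariants (σ.comp (D.f.comp i₁)) := by
    rw [Representation.mem_invariants]
    intro c
    have h2 : i₁ c = (a, 1, 1, 1) ^ c.toAdd.val := by
      have h3 : i₁ a = (a, 1, 1, 1) := rfl
      rw [← h3, ← map_pow, ← A_pow]
    have h3 : g * D.f (i₁ c) * g⁻¹ = D.f (e ^ c.toAdd.val) := by
      rw [h2, map_pow, map_pow, ← he, conj_pow]
    have h4 : D.f (i₁ c) * g⁻¹ = g⁻¹ * D.f (e ^ c.toAdd.val) := by
      rw [← h3]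
      group
    change σ (D.f (i₁ c)) (σ g⁻¹ w) = σ g⁻¹ w
    rw [← Module.End.mul_apply, ← map_mul, h4, map_mul, Module.End.mul_apply, mem_St.1 (hw _)]
  rw [heq, Representation.mem_invariants] at h1
  have h2 : σ (D.f (i₃ k)) (σ g⁻¹ w) = σ g⁻¹ w := h1 k
  rw [mem_St, map_mul, map_mul, Module.End.mul_apply, Module.End.mul_apply, h2, ← Module.End.mul_apply, ← map_mul,
    mul_inv_cancel, map_one, Module.End.one_apply]

include D in
theorem main : ¬ Adm S := by
  classical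
  rintro ⟨M, V, hM, hV, σ, H⟩
  obtain ⟨x, hx, hv⟩ := exists_val D σ H
  have e₄ := dimE D hM hV σ hv (K := E) (by decide) (MonoidHom.id E) (n₀ := 20) (n₁ := 30) (n₂ := 30)
    (by decide +kernel) (by decide +kernel) (by decide +kernel) (by decide +kernel)
  have e₃ := dimE D hM hV σ hv (by decide) i₃ (n₀ := 2) (n₁ := 12) (n₂ := 12)
    (by decide +kernel) (by decide +kernel) (by decide +kernel) (by decide +kernel)
  have e₁ := dimE D hM hV σ hv (by decide) i₁ (n₀ := 2) (n₁ := 0) (n₂ := 0)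
    (by decide +kernel) (by decide +kernel) (by decide +kernel) (by decide +kernel)
  have eB := dimE D hM hV σ hv (by decide) iB (n₀ := 2) (n₁ := 6) (n₂ := 0)
    (by decide +kernel) (by decide +kernel) (by decide +kernel) (by decide +kernel)
  have eC := dimE D hM hV σ hv (by decide) iC (n₀ := 2) (n₁ := 0) (n₂ := 6)
    (by decide +kernel) (by decide +kernel) (by decide +kernel) (by decide +kernel)
  have c₄ : Fintype.card E = 81 := by decide
  have c₃ : Fintype.card (A × A × A) = 27 := by decide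
  have c₂ : Fintype.card (A × A) = 9 := by decide
  have c₁ : Fintype.card A = 3 := by decide
  rw [c₄] at e₄
  rw [c₃] at e₃
  rw [c₂] at eB eC
  rw [c₁] at e₁
  have hid : D.f.comp (MonoidHom.id E) = D.f := MonoidHom.comp_id _
  rw [hid] at e₄
  have lB := Submodule.finrank_mono (inv_le σ D.f iB)
  have lC := Submodule.finrank_mono (inv_le σ D.f iC)
  simp only [Nat.cast_ofNat, zero_mul, add_zero] at e₄ e₃ e₁ eB eC
  obtain ⟨r₀, r₁, r₂, d₄, d₃, d₁⟩ := arith (hx 0) (hx 1) (hx 2) e₄ e₃ e₁ eB eC lB lC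
  have heq : Representation.invariants (σ.comp (D.f.comp i₃)) = Representation.invariants (σ.comp (D.f.comp i₁)) := by
    refine Submodule.eq_of_le_of_finrank_eq ?_ (d₃.trans d₁.symm)
    intro w hw
    rw [Representation.mem_invariants] at hw ⊢
    intro c
    exact hw (c, 1, 1)
  -- the element of order five
  set y : S := D.g₁ * D.f (D.k₁.1, D.k₁.2.1, D.k₁.2.2, 1) * D.g₁⁻¹ *
    (D.g₂ * D.f (D.k₂.1, D.k₂.2.1, D.k₂.2.2, 1) * D.g₂⁻¹) with hydef
  have hp5 : Fact (Nat.Prime 5) := ⟨by norm_num⟩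
  have hy5 : y ^ 5 = 1 := D.hy
  have hn : ∀ e, ∃ e', y * D.f e = D.f e' * y := D.hn
  have hc : ∀ e, e ≠ 1 → y * D.f e ≠ D.f e * y := D.hc
  have hyfix : ∀ w, (∀ e, D.f e ∈ St σ w) → y ∈ St σ w := fun w hw =>
    (St σ w).mul_mem (fix_conj D σ heq.symm D.h₁ hw D.k₁) (fix_conj D σ heq.symm D.h₂ hw D.k₂)
  set P : Subgroup S := D.f.range with hP
  have hyN : y ∈ Subgroup.normalizer (P : Set S) := by
    have h1 : ∀ u ∈ P, y * u * y⁻¹ ∈ P := by
      rintro _ ⟨e, rfl⟩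
      obtain ⟨e', he'⟩ := hn e
      rw [he', mul_inv_cancel_right]
      exact ⟨e', rfl⟩
    have hfin : Finite P := Set.finite_range D.f
    have hinj : Function.Injective (fun u : P => (⟨y * u * y⁻¹, h1 u u.2⟩ : P)) := by
      intro u u' h
      have := congrArg Subtype.val h
      simp only [mul_left_inj, mul_right_inj] at this
      exact Subtype.ext this
    have hsurj := Finite.surjective_of_injective hinj
    rw [Subgroup.mem_normalizer_iff]
    intro u
    refine ⟨fun hu => h1 u hu, fun hu => ?_⟩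
    obtain ⟨u', hu'⟩ := hsurj ⟨_, hu⟩
    have := congrArg Subtype.val hu'
    simp only [mul_left_inj, mul_right_inj] at this
    rw [← this]
    exact u'.2
  have hyc : ∀ u ∈ P, y * u = u * y → u = 1 := by
    rintro _ ⟨e, rfl⟩ h
    by_contra h1
    exact hc e (fun h2 => h1 (by rw [h2, map_one])) h
  have hab : ∀ u ∈ P, ∀ u' ∈ P, u * u' = u' * u := by
    rintro _ ⟨e, rfl⟩ _ ⟨e', rfl⟩
    rw [← map_mul, ← map_mul, mul_comm]
  have hy1 : y ≠ 1 := by
    intro h
    refine hc (a, 1, 1, 1) (by decide) ?_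
    rw [h, one_mul, mul_one]
  have hyo : orderOf y = 5 := orderOf_eq_prime hy5 hy1
  have hd : Disjoint P (Subgroup.zpowers y) := by
    rw [Subgroup.disjoint_def]
    intro u hu hu2
    obtain ⟨k, rfl⟩ := Subgroup.mem_zpowers_iff.1 hu2
    exact hyc _ hu ((Commute.refl y).zpow_right k).eq
  have hPc : Nat.card P = 81 := by
    rw [← Nat.card_congr (MonoidHom.ofInjective D.inj).toEquiv, Nat.card_eq_fintype_card, c₄]
  have hNc : Nat.card ↥(P ⊔ Subgroup.zpowers y) = 405 := by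
    rw [card_mul hyN hd, hPc, Nat.card_zpowers, hyo]
  have hfinN : Finite ↥(P ⊔ Subgroup.zpowers y) := Nat.finite_of_card_ne_zero (by rw [hNc]; norm_num)
  have := Fintype.ofFinite ↥(P ⊔ Subgroup.zpowers y)
  have hNc' : Fintype.card ↥(P ⊔ Subgroup.zpowers y) = 405 := by rw [← Nat.card_eq_fintype_card, hNc]
  have h6 := dimF hM hV σ (by rw [hNc']; decide) (P ⊔ Subgroup.zpowers y).subtype
  rw [hNc'] at h6
  -- the sum
  have h7 : ∑ e : E, (bc 2 σ (D.f e) - 6) = ∑ g : ↥(P ⊔ Subgroup.zpowers y), (bc 2 σ (g : S) - 6) := by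
    refine Finset.sum_of_injOn (fun e => ⟨D.f e, Subgroup.mem_sup_left ⟨e, rfl⟩⟩) ?_ ?_ ?_ ?_
    · intro e _ e' _ h
      exact D.inj (congrArg Subtype.val h)
    · intro e _
      exact Finset.mem_coe.2 (Finset.mem_univ _)
    · rintro ⟨g, hg⟩ _ hgi
      have hgP : g ∉ P := by
        rintro ⟨e, rfl⟩
        exact hgi ⟨e, Finset.mem_coe.2 (Finset.mem_univ _), rfl⟩
      have h8 := pow5 hyN hy5 hab hyc hg hgP
      have h9 : orderOf g = 5 := orderOf_eq_prime h8 fun h => hgP (by rw [h]; exact P.one_mem)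
      rw [H.five g h9, sub_self]
    · intro e _
      rfl
  have h8 := dimF hM hV σ (by rw [c₄]; decide) D.f
  rw [c₄, d₄] at h8
  rw [Finset.sum_sub_distrib, Finset.sum_sub_distrib, Finset.sum_const, Finset.sum_const, Finset.card_univ,
    Finset.card_univ, c₄, hNc', h8] at h7
  have h9 : (Module.finrank (ResidueField V)
      (Representation.invariants (σ.comp (P ⊔ Subgroup.zpowers y).subtype)) : ℂ) = 8 := by
    have h10 : ∑ g : ↥(P ⊔ Subgroup.zpowers y), bc 2 σ (g : S) = (405 : ℕ) *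
      (Module.finrank (ResidueField V) (Representation.invariants (σ.comp (P ⊔ Subgroup.zpowers y).subtype)) : ℂ) := h6
    rw [h10] at h7
    simp only [nsmul_eq_mul] at h7
    push_cast at h7
    linear_combination (-1 / 405 : ℂ) * h7
  have h10 : Module.finrank (ResidueField V)
      (Representation.invariants (σ.comp (P ⊔ Subgroup.zpowers y).subtype)) = 8 := by exact_mod_cast h9
  have h11 : Representation.invariants (σ.comp D.f) ≤
      Representation.invariants (σ.comp (P ⊔ Subgroup.zpowers y).subtype) := by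
    intro w hw
    rw [Representation.mem_invariants] at hw ⊢
    have h12 : ∀ e, D.f e ∈ St σ w := fun e => hw e
    have h13 : P ⊔ Subgroup.zpowers y ≤ St σ w := by
      rw [sup_le_iff, Subgroup.zpowers_le]
      refine ⟨?_, hyfix w h12⟩
      rintro _ ⟨e, rfl⟩
      exact h12 e
    intro g
    exact h13 g.2
  have h12 := Submodule.finrank_mono h11
  omega

end main

end Cfsg.Agent.H248.E7U
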