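import Cfsg.Agent.H248.E7U.Core
import Cfsg.Agent.Mrg.Omega.ML.UFour.Perm

/-!
# `U₄(3)` is not contained in `E₇(2)`: words in the permutation model (S5935; helper248)
-/

set_option autoImplicit false
set_option maxRecDepth 100000

namespace Cfsg.Agent.H248.E7U

open Cfsg.Agent.Omega.ML.UFour.Data (ok eqw eq3)
open Cfsg.Agent.Omega.ML.UFour.Perm (wd wd_nil wd_append eqw_spec eq3_of_eq ok_append psu_iso)
open Cfsg.Agent.SporadicStructure.U43Perm (K0)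

/-- generators of `3⁴` -/
def w₀ : List ℕ := [7, 2, 9]
@[inherit_doc w₀] def w₁ : List ℕ := [0, 3, 8, 0, 3, 6, 1, 0]
@[inherit_doc w₀] def w₂ : List ℕ := [2, 3, 7, 9, 0, 8, 8, 0, 2]
@[inherit_doc w₀] def w₃ : List ℕ := [9, 8, 2, 3]

/-- the power of a word -/
def rp' (n : ℕ) (w : List ℕ) : List ℕ := (List.replicate n w).flatten

/-- the words of the elements of `3⁴` -/
def qw (e : E) : List ℕ :=
  rp' e.1.toAdd.val w₀ ++ (rp' e.2.1.toAdd.val w₁ ++ (rp' e.2.2.1.toAdd.val w₂ ++ rp' e.2.2.2.toAdd.val w₃))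

/-- representatives of the classes -/
def rw' (i : ZMod 3) : List ℕ := if i = 0 then [7, 2, 9] else if i = 1 then [7, 2, 9, 2, 2] else [2, 2]

/-- conjugating words -/
def cwl : List (List ℕ) :=
  [[], [8, 2], [2], [4, 0, 7, 0, 6], [3, 6, 2, 0, 6], [0, 2, 4, 1, 0], [4, 0, 7, 0, 4], [2, 8, 6, 0, 6],
   [0, 4, 2, 4, 0], [0, 2, 1, 0, 0], [9, 3, 0, 2, 3], [2, 6, 0, 8, 7], [6, 0, 7, 0, 4], [3, 2, 0, 4],
   [3, 2, 1, 0, 6], [3, 9, 0, 2, 1, 0, 0], [0, 9, 0, 8], [1, 0, 9, 0, 8, 2], [8, 0, 8, 2, 0],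
   [2, 6, 0, 2, 3], [0, 4, 2, 0, 0], [1, 3, 9, 0, 2, 1, 0, 0], [2, 0, 3, 0, 8], [0, 9, 0, 8, 2],
   [6, 0, 7, 0, 6], [3, 2, 1, 0, 4], [3, 2, 0, 6], [], [2], [], [2, 3, 2, 0, 6], [0, 9, 0, 3],
   [2, 8, 6, 0, 4], [9, 6, 2, 0, 6], [8, 2, 0, 2], [3, 6, 2, 0, 4], [6, 0, 8, 7], [6, 0, 2, 3], [6, 0, 3, 2],
   [9, 2, 0, 4], [3, 1, 0, 6, 0], [9, 2, 0, 4], [4, 0, 2, 3], [4, 0, 3, 8], [4, 0, 9, 4], [6, 1, 0, 8, 7],
   [6, 1, 0, 2, 3], [6, 1, 0, 3, 2], [0, 3, 0, 8, 2], [4, 1, 0, 3, 8], [8, 0, 2, 0], [8, 6, 0, 4],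
   [3, 0, 6, 0], [8, 6, 0, 4], [7, 3], [6, 4], [], [9, 6, 2, 0, 4], [0, 4, 2, 4, 0], [0, 3, 0, 3],
   [0, 4, 2, 0, 0], [2, 3, 2, 0, 4], [0, 9, 0, 7], [0, 2, 4, 1, 0], [4, 2, 0, 0, 0], [2, 6, 0, 2, 3],
   [8, 6, 0, 6], [3, 2, 0, 4], [7, 3, 0, 2], [0, 3, 0, 8], [8, 4, 0, 9], [0, 2, 1, 0, 0], [6, 0, 2, 3],
   [0, 3, 0, 2], [6, 0, 3, 8], [4, 0, 8, 7], [4, 0, 3, 2], [4, 0, 2, 3], [9, 2, 0, 6], [9, 2, 0, 6],
   [7, 3, 1, 0, 2]]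

/-- the conjugating word of an element -/
def cw (e : E) : List ℕ :=
  cwl.getD (27 * e.1.toAdd.val + 9 * e.2.1.toAdd.val + 3 * e.2.2.1.toAdd.val + e.2.2.2.toAdd.val) []

/-- the element of order 5 -/
def yw : List ℕ := [3, 1, 0, 3, 2, 3, 2, 0, 0]
/-- its factors -/
def uw : List ℕ := [9, 0, 8, 4, 2, 0, 8]
@[inherit_doc uw] def vw : List ℕ := [0, 8, 9, 0, 7, 2, 8]

/-- the action of the element of order 5 -/
def me (e : E) : E := (Multiplicative.ofAdd (e.1.toAdd + e.2.1.toAdd + e.2.2.1.toAdd + 2 * e.2.2.2.toAdd),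
  Multiplicative.ofAdd (2 * e.1.toAdd + 2 * e.2.2.1.toAdd + 2 * e.2.2.2.toAdd),
  Multiplicative.ofAdd (e.1.toAdd + e.2.1.toAdd + 2 * e.2.2.1.toAdd + 2 * e.2.2.2.toAdd),
  Multiplicative.ofAdd (2 * e.1.toAdd + 2 * e.2.1.toAdd + 2 * e.2.2.2.toAdd))

theorem ok_all : (∀ e : E, ok (qw e) = true) ∧ ok yw = true := by decide +kernel
theorem chk3 : eqw (rp' 3 w₀) [] = true ∧ eqw (rp' 3 w₁) [] = true ∧ eqw (rp' 3 w₂) [] = true ∧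
    eqw (rp' 3 w₃) [] = true := by decide +kernel
theorem chkc : eqw (w₀ ++ w₁) (w₁ ++ w₀) = true ∧ eqw (w₀ ++ w₂) (w₂ ++ w₀) = true ∧ eqw (w₀ ++ w₃) (w₃ ++ w₀) = true ∧
    eqw (w₁ ++ w₂) (w₂ ++ w₁) = true ∧ eqw (w₁ ++ w₃) (w₃ ++ w₁) = true ∧ eqw (w₂ ++ w₃) (w₃ ++ w₂) = true := by
  decide +kernel
theorem chki : ∀ e : E, e ≠ 1 → eq3 (qw e) [] = false := by decide +kernel
theorem chkj : ∀ e : E, e ≠ 1 → eqw (cw e ++ rw' (ty e)) (qw e ++ cw e) = true := by decide +kernel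
theorem chky : eqw (rp' 5 yw) [] = true ∧ eqw (uw ++ vw) yw = true := by decide +kernel
theorem chkn : ∀ e : E, eqw (yw ++ qw e) (qw (me e) ++ yw) = true := by decide +kernel
theorem chkf : ∀ e : E, e ≠ 1 → eq3 (yw ++ qw e) (qw e ++ yw) = false := by decide +kernel
theorem chku : eqw ([8, 2] ++ qw (1, a, 1, 1)) (uw ++ [8, 2]) = true ∧
    eqw ([7, 3] ++ qw (1, a, a * a, 1)) (vw ++ [7, 3]) = true := by decide +kernel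
theorem chkg : eqw ([8, 2] ++ w₀) (qw (1, 1, 1, a) ++ [8, 2]) = true ∧
    eqw ([7, 3] ++ w₀) (qw (a * a, 1, 1, 1) ++ [7, 3]) = true := by decide +kernel

end Cfsg.Agent.H248.E7U
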