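import Cfsg.Agent.H248.E7U.Data

/-!
# `U₄(3)` is not contained in `E₇(2)` (S5935, task T2; helper248)
-/

set_option autoImplicit false
set_option maxRecDepth 100000

namespace Cfsg.Agent.H248.E7U

open Cfsg Cfsg.Agent.H943.E7V
open Cfsg.Agent.Omega.ML.UFour.Data (ok eqw eq3)
open Cfsg.Agent.Omega.ML.UFour.Perm (wd wd_nil wd_append eqw_spec eq3_of_eq ok_append psu_iso)
open Cfsg.Agent.SporadicStructure.U43Perm (K0)

/-- powers of an element of order 3 -/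
def pw {S : Type*} [Group S] (x : S) (hx : x ^ 3 = 1) : A →* S where
  toFun k := x ^ k.toAdd.val
  map_one' := by simp
  map_mul' k l := by
    change x ^ (k.toAdd + l.toAdd).val = _
    rw [← pow_add, ZMod.val_add, ← pow_eq_pow_mod _ hx]

theorem pw_apply {S : Type*} [Group S] (x : S) (hx : x ^ 3 = 1) (k : A) : pw x hx k = x ^ k.toAdd.val := rfl

theorem pw_comm {S : Type*} [Group S] {x y : S} (hx : x ^ 3 = 1) (hy : y ^ 3 = 1) (h : x * y = y * x) (k l : A) :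
    Commute (pw x hx k) (pw y hy l) := by
  have h1 : Commute x y := h
  exact (h1.pow_left _).pow_right _

/-- the homomorphism of four commuting elements of order 3 -/
def hom {S : Type*} [Group S] (x₀ x₁ x₂ x₃ : S) (h₀ : x₀ ^ 3 = 1) (h₁ : x₁ ^ 3 = 1) (h₂ : x₂ ^ 3 = 1) (h₃ : x₃ ^ 3 = 1)
    (c₀₁ : x₀ * x₁ = x₁ * x₀) (c₀₂ : x₀ * x₂ = x₂ * x₀) (c₀₃ : x₀ * x₃ = x₃ * x₀) (c₁₂ : x₁ * x₂ = x₂ * x₁)
    (c₁₃ : x₁ * x₃ = x₃ * x₁) (c₂₃ : x₂ * x₃ = x₃ * x₂) : E →* S :=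
  (pw x₀ h₀).noncommCoprod ((pw x₁ h₁).noncommCoprod ((pw x₂ h₂).noncommCoprod (pw x₃ h₃) (pw_comm h₂ h₃ c₂₃))
    (fun k l => by
      rw [MonoidHom.noncommCoprod_apply]
      exact (pw_comm h₁ h₂ c₁₂ _ _).mul_right (pw_comm h₁ h₃ c₁₃ _ _)))
    (fun k l => by
      rw [MonoidHom.noncommCoprod_apply, MonoidHom.noncommCoprod_apply]
      exact (pw_comm h₀ h₁ c₀₁ _ _).mul_right ((pw_comm h₀ h₂ c₀₂ _ _).mul_right (pw_comm h₀ h₃ c₀₃ _ _)))

theorem wd_rp (n : ℕ) (w : List ℕ) : wd (rp' n w) = wd w ^ n := by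
  unfold rp'
  induction n with
  | zero => rw [List.replicate_zero, List.flatten_nil, wd_nil, pow_zero]
  | succ n ih => rw [List.replicate_succ, List.flatten_cons, wd_append, ih, pow_succ']

theorem pow3 {w : List ℕ} (h : eqw (rp' 3 w) [] = true) : wd w ^ 3 = 1 := by
  rw [← wd_rp, eqw_spec h, wd_nil]

theorem cm {u v : List ℕ} (h : eqw (u ++ v) (v ++ u) = true) : wd u * wd v = wd v * wd u := by
  rw [← wd_append, ← wd_append, eqw_spec h]

/-- the elementary abelian group -/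
noncomputable def F : E →* K0 :=
  hom (wd w₀) (wd w₁) (wd w₂) (wd w₃) (pow3 chk3.1) (pow3 chk3.2.1) (pow3 chk3.2.2.1) (pow3 chk3.2.2.2)
    (cm chkc.1) (cm chkc.2.1) (cm chkc.2.2.1) (cm chkc.2.2.2.1) (cm chkc.2.2.2.2.1) (cm chkc.2.2.2.2.2)

theorem F_eq (e : E) : F e = wd (qw e) := by
  unfold F hom qw
  rw [MonoidHom.noncommCoprod_apply, MonoidHom.noncommCoprod_apply, MonoidHom.noncommCoprod_apply, pw_apply, pw_apply,
    pw_apply, pw_apply, wd_append, wd_append, wd_append, wd_rp, wd_rp, wd_rp, wd_rp]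

theorem F_a : F (a, 1, 1, 1) = wd w₀ := by
  rw [F_eq]
  congr 1

theorem conj_eq {g u v : List ℕ} (h : eqw (g ++ u) (v ++ g) = true) : wd g * wd u * (wd g)⁻¹ = wd v := by
  have h1 := eqw_spec h
  rw [wd_append, wd_append] at h1
  rw [h1, mul_inv_cancel_right]

theorem y_eq : wd [8, 2] * F (1, a, 1, 1) * (wd [8, 2])⁻¹ * (wd [7, 3] * F (1, a, a * a, 1) * (wd [7, 3])⁻¹) = wd yw := by
  rw [F_eq, F_eq, conj_eq chku.1, conj_eq chku.2, ← wd_append, eqw_spec chky.2]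

/-- the data -/
noncomputable def D : Dat K0 where
  f := F
  inj := by
    rw [injective_iff_map_eq_one]
    intro e he
    by_contra h
    have h1 := chki e h
    rw [F_eq, ← wd_nil] at he
    rw [eq3_of_eq (ok_all.1 e) rfl he] at h1
    exact absurd h1 (by decide)
  conj e e' he he' ht := by
    refine ⟨wd (cw e') * (wd (cw e))⁻¹, ?_⟩
    have h1 := eqw_spec (chkj e he)
    have h2 := eqw_spec (chkj e' he')
    rw [wd_append, wd_append] at h1 h2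
    rw [F_eq, F_eq]
    have h3 : (wd (cw e))⁻¹ * wd (qw e) * wd (cw e) = wd (rw' (ty e)) := by
      rw [mul_assoc, ← h1, inv_mul_cancel_left]
    calc wd (cw e') * (wd (cw e))⁻¹ * wd (qw e) * (wd (cw e') * (wd (cw e))⁻¹)⁻¹
        = wd (cw e') * ((wd (cw e))⁻¹ * wd (qw e) * wd (cw e)) * (wd (cw e'))⁻¹ := by group
      _ = wd (qw e') := by rw [h3, ht, h2, mul_inv_cancel_right]
  g₁ := wd [8, 2]
  g₂ := wd [7, 3]
  h₁ := ⟨(1, 1, 1, a), by rw [F_a, F_eq, conj_eq chkg.1]⟩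
  h₂ := ⟨(a * a, 1, 1, 1), by rw [F_a, F_eq, conj_eq chkg.2]⟩
  k₁ := (1, a, 1)
  k₂ := (1, a, a * a)
  hy := by
    change (wd [8, 2] * F (1, a, 1, 1) * (wd [8, 2])⁻¹ * (wd [7, 3] * F (1, a, a * a, 1) * (wd [7, 3])⁻¹)) ^ 5 = 1
    rw [y_eq, ← wd_rp, eqw_spec chky.1, wd_nil]
  hn e := by
    change ∃ e', wd [8, 2] * F (1, a, 1, 1) * (wd [8, 2])⁻¹ * (wd [7, 3] * F (1, a, a * a, 1) * (wd [7, 3])⁻¹) * F e =
      F e' * (wd [8, 2] * F (1, a, 1, 1) * (wd [8, 2])⁻¹ * (wd [7, 3] * F (1, a, a * a, 1) * (wd [7, 3])⁻¹))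
    rw [y_eq]
    exact ⟨me e, by rw [F_eq, F_eq, ← wd_append, ← wd_append, eqw_spec (chkn e)]⟩
  hc e he := by
    change wd [8, 2] * F (1, a, 1, 1) * (wd [8, 2])⁻¹ * (wd [7, 3] * F (1, a, a * a, 1) * (wd [7, 3])⁻¹) * F e ≠
      F e * (wd [8, 2] * F (1, a, 1, 1) * (wd [8, 2])⁻¹ * (wd [7, 3] * F (1, a, a * a, 1) * (wd [7, 3])⁻¹))
    rw [y_eq]
    intro h
    rw [F_eq, ← wd_append, ← wd_append] at h
    have h1 := chkf e he
    rw [eq3_of_eq (ok_append ok_all.2 (ok_all.1 e)) (ok_append (ok_all.1 e) ok_all.2) h] at h1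
    exact absurd h1 (by decide)

theorem not_K0 : ¬ Adm K0 := main D

/-- **`U₄(3)` is not admissible** -/
theorem not_psu43 {F : Type*} [Field F] [Fintype F] (hF : Fintype.card F = 9) : ¬ Adm (PSU 4 F 3) := by
  intro h
  obtain ⟨f⟩ := psu_iso hF
  exact not_K0 (h.comap f.symm.toMonoidHom f.symm.injective)

end Cfsg.Agent.H248.E7U
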